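import Groth.Agent.S1643
import Groth.Agent.S0002
import Groth.Agent.Sga67.CMReg
import Groth.Agent.Sga67.SerreVB
import Groth.Agent.CurvesB.HZero
import Groth.Agent.Fga.MumReg
import Groth.Agent.VarietyB.EulerBinom

/-!
# Presentations of `m`-regular sheaves with fixed Hilbert polynomial on `P^n_k`

`exists_presentation`: for `n, m, φ` and a field `k` there are coherent modules `E`, `E'` on `P^n_k` such that every
`m`-regular coherent `F` on `P^n_k` with Hilbert polynomial `φ` is the cokernel of some morphism `E ⟶ E'`.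
-/

set_option autoImplicit false
universe u
open CategoryTheory CategoryTheory.Limits AlgebraicGeometry Opposite TopologicalSpace

namespace Groth.Agent.Pic13.H951.Present

open Groth.Agent.Sga67 Groth.Agent.CurvesB

section General

variable {k : Type u} [Field k] {X : Scheme.{u}} [X.Over (Spec (CommRingCat.of k))]

/-- Global sections spanning `H^0(X, M)` over `k` generate a globally generated module. -/
theorem epi_of_span {M : X.Modules} (h : Curv2.IsGloballyGenerated M) {N : ℕ} (s : Fin N → Γ(M, ⊤))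
    (hs : letI := HZero.moduleΓ k M; Submodule.span k (Set.range s) = ⊤) :
    Epi (Dcoh.FinLocFree.freeDesc s) := by
  obtain ⟨ι, p, hp⟩ := h
  refine ⟨fun {Z} u v huv => ?_⟩
  have h3 : ∀ t : Γ(M, ⊤), u.app ⊤ t = v.app ⊤ t := by
    let _ := HZero.moduleΓ k M
    intro t
    have ht : t ∈ Submodule.span k (Set.range s) := by rw [hs]; trivial
    induction ht using Submodule.span_induction with
    | mem x hx =>
      obtain ⟨i, rfl⟩ := hx
      have h3 := congrArg (fun φ => Dcoh.FinLocFree.freeSec φ i) huv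
      simp only [Dcoh.FinLocFree.freeSec_comp, Dcoh.FinLocFree.freeSec_freeDesc] at h3
      exact h3
    | zero => rw [map_zero, map_zero]
    | add x y _ _ hx hy => rw [map_add, map_add, hx, hy]
    | smul a x _ hx =>
      have e1 : u.app ⊤ (a • x) = (HZero.gl k X a) • u.app ⊤ x := Scheme.Modules.Hom.app_smul u _ _
      have e2 : v.app ⊤ (a • x) = (HZero.gl k X a) • v.app ⊤ x := Scheme.Modules.Hom.app_smul v _ _
      rw [e1, e2, hx]
  refine (cancel_epi p).mp (VarietyB.GGStalk.free_hom_ext fun i => ?_)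
  exact h3 (Scheme.Modules.Hom.app (M := VarietyB.GGStalk.fr X ι) (N := M) p ⊤
    (VarietyB.GGStalk.frSec i))

/-- A globally generated module with `h^0 ≤ N` is a quotient of `O^N`. -/
theorem exists_epi_of_le {M : X.Modules} (h : Curv2.IsGloballyGenerated M)
    (hf : Module.Finite k (Coh.HH X M 0)) {N : ℕ} (hN : Module.finrank k (Coh.HH X M 0) ≤ N) :
    ∃ p : FlatMod.freeMod X N ⟶ M, Epi p := by
  let _ := HZero.moduleΓ k M
  let e := HZero.equivLin k M
  let b := Module.finBasis k (Coh.HH X M 0)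
  let s : Fin N → Γ(M, ⊤) := fun i => if hi : i.1 < Module.finrank k (Coh.HH X M 0) then e (b ⟨i.1, hi⟩) else 0
  refine ⟨Dcoh.FinLocFree.freeDesc s, epi_of_span (k := k) h s ?_⟩
  rw [eq_top_iff]
  rintro t -
  obtain ⟨x, rfl⟩ := e.surjective t
  have hx : x ∈ Submodule.span k (Set.range b) := by rw [b.span_eq]; trivial
  have h1 : e x ∈ (Submodule.span k (Set.range b)).map e.toLinearMap := ⟨x, hx, rfl⟩
  rw [Submodule.map_span] at h1
  refine Submodule.span_mono ?_ h1
  rintro _ ⟨_, ⟨j, rfl⟩, rfl⟩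
  refine ⟨⟨j.1, lt_of_lt_of_le j.2 hN⟩, ?_⟩
  simp only [s]
  rw [dif_pos j.2]
  rfl

end General

section Proj

variable (k : Type u) [Field k] (n : ℕ)

open Groth.Agent.Sga67.SerreVB in
/-- **Presentations of regular sheaves**: the `m`-regular coherent modules on `P^n_k` with a given Hilbert polynomial
are cokernels of morphisms between two fixed coherent modules. -/
theorem exists_presentation (m : ℤ) (φ : Polynomial ℚ) :
    ∃ E E' : (CohB1.ProjSpace n k).Modules, Coh.IsCoh E ∧ Coh.IsCoh E' ∧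
      ∀ F : (CohB1.ProjSpace n k).Modules, Coh.IsCoh F → Curv2.IsMRegular k n F m →
        (∀ d : ℤ, (FGA.eulerCharLE k (CohB1.ProjSpace n k)
          (CohB1.tensorMod F (Twist.twistProjSpace n k d)) n : ℚ) = φ.eval (d : ℚ)) →
        ∃ u : E ⟶ E', Nonempty (cokernel u ≅ F) := by
  have hproper : IsProper (CohB1.ProjSpace n k ↘ Spec (CommRingCat.of k)) :=
    VarietyB.EulerBinom.isProper_over k n
  have hLN : IsLocallyNoetherian (CohB1.ProjSpace n k) :=
    LocallyOfFiniteType.isLocallyNoetherian (CohB1.ProjSpace n k ↘ (Spec (CommRingCat.of k)))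
  let a : ℕ := ⌊φ.eval (m : ℚ)⌋.toNat + 1
  obtain ⟨m₁, hm₁⟩ := Groth.Agent.S1643.result.{u} n a (by omega) (φ.comp (Polynomial.X + Polynomial.C (m : ℚ)))
  let b : ℕ := Module.finrank k (Coh.HH (CohB1.ProjSpace n k)
    (Fga.MumReg.tw (FlatMod.freeMod (CohB1.ProjSpace n k) a) m₁) 0)
  have hfree : ∀ r : ℕ, Coh.IsCoh (FlatMod.freeMod (CohB1.ProjSpace n k) r) := fun r =>
    VarietyB.EulerBinom.isCoh_free k n r
  refine ⟨(tw n k (-m)).obj ((tw n k (-m₁)).obj (FlatMod.freeMod _ b)),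
    (tw n k (-m)).obj (FlatMod.freeMod _ a), isCoh_tw n k (isCoh_tw n k (hfree b) _) _,
    isCoh_tw n k (hfree a) _, fun F hF hreg hφ => ?_⟩
  -- generators of `F(m)`
  have hFm : Coh.IsCoh ((tw n k m).obj F) := isCoh_tw n k hF m
  have hfin : Module.Finite k (Coh.HH (CohB1.ProjSpace n k) ((tw n k m).obj F) 0) := S0002.result k _ _ hFm 0
  have hvan : ∀ i : ℕ, 1 ≤ i → Subsingleton (Coh.HH (CohB1.ProjSpace n k) ((tw n k m).obj F) i) := fun i hi =>
    CMReg.subsingleton_HH hF.1 hreg i hi m (by omega)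
  have hh0 := Fga.MumReg.eulerCharLE_large F m hvan n
  have hle : Module.finrank k (Coh.HH (CohB1.ProjSpace n k) ((tw n k m).obj F) 0) ≤ a := by
    have h1 : (⌊φ.eval (m : ℚ)⌋ : ℤ) = (Module.finrank k (Coh.HH (CohB1.ProjSpace n k) ((tw n k m).obj F) 0) : ℤ) := by
      rw [← hφ m, Int.floor_intCast]
      exact hh0
    change _ ≤ ⌊φ.eval (m : ℚ)⌋.toNat + 1
    rw [h1]
    simp
  obtain ⟨p, hp⟩ := exists_epi_of_le (k := k) (CMReg.isGloballyGenerated hF.1 (m := m) hreg m le_rfl) hfin hle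
  -- the kernel
  have hK : Coh.IsCoh (kernel p) := Sga67.CohBasic.isCoh_kernel p (hfree a) hFm.1
  have hKreg : Curv2.IsMRegular k n (kernel p) m₁ := by
    refine hm₁ k ((tw n k m).obj F) p hFm hp fun t => ?_
    obtain ⟨e⟩ := nonempty_tw_tw n k m t F
    have h1 : Curv2.euler k (CohB1.ProjSpace n k) (CohB1.tensorMod ((tw n k m).obj F) (Twist.twistProjSpace n k t)) =
        Curv2.euler k (CohB1.ProjSpace n k) ((tw n k (m + t)).obj F) := VarietyB.EulerBinom.euler_iso k n e
    have h2 := VarietyB.EulerBinom.eulerCharLE_eq k n (isCoh_tw n k hF (m + t))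
    rw [h1, ← h2]
    refine (hφ (m + t)).trans ?_
    simp [add_comm]
  have hKvan : ∀ i : ℕ, 1 ≤ i → Subsingleton (Coh.HH (CohB1.ProjSpace n k) (Fga.MumReg.tw (kernel p) m₁) i) :=
    fun i hi => CMReg.subsingleton_HH hK.1 hKreg i hi m₁ (by omega)
  have hSES : (ShortComplex.mk (kernel.ι p) p (kernel.condition p)).ShortExact :=
    { exact := ShortComplex.exact_kernel p
      mono_f := inferInstance
      epi_g := hp }
  have hadd := Fga.MumReg.h0_add hSES hK.1 m₁ (hKvan 1 le_rfl)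
    (S0002.result k _ _ (isCoh_tw n k (hfree a) m₁) 0)
  have hKfin : Module.Finite k (Coh.HH (CohB1.ProjSpace n k) ((tw n k m₁).obj (kernel p)) 0) :=
    S0002.result k _ _ (isCoh_tw n k hK m₁) 0
  have hKle : Module.finrank k (Coh.HH (CohB1.ProjSpace n k) ((tw n k m₁).obj (kernel p)) 0) ≤ b := by
    change Module.finrank k (Coh.HH (CohB1.ProjSpace n k) (Fga.MumReg.tw (kernel p) m₁) 0) ≤ _
    have h1 : b = _ := hadd
    rw [h1]
    exact Nat.le_add_right _ _
  obtain ⟨q, hq⟩ := exists_epi_of_le (k := k) (CMReg.isGloballyGenerated hK.1 (m := m₁) hKreg m₁ le_rfl) hKfin hKle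
  -- `q(-m₁) : O(-m₁)^b ⟶ K(m₁)(-m₁) ≅ K`
  obtain ⟨e₁⟩ := nonempty_tw_tw n k m₁ (-m₁) (kernel p)
  obtain ⟨e₂⟩ := nonempty_tw_zero n k (kernel p)
  rw [add_neg_cancel] at e₁
  have hq' := epi_tw_map (isInvertible_twist n k (-m₁)) q
  let v : (tw n k (-m₁)).obj (FlatMod.freeMod _ b) ⟶ kernel p := (tw n k (-m₁)).map q ≫ e₁.hom ≫ e₂.hom
  have hv : Epi v := by
    dsimp only [v]
    infer_instance
  let w := v ≫ kernel.ι p
  have hw : Nonempty (cokernel w ≅ (tw n k m).obj F) := by
    have hc : IsColimit (CokernelCofork.ofπ (f := w) p (by simp [w])) := by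
      refine CokernelCofork.IsColimit.ofπ' p _ fun {A} g hg => ?_
      have hg' : kernel.ι p ≫ g = 0 := by
        rw [← cancel_epi v, comp_zero, ← Category.assoc]
        exact hg
      exact ⟨Abelian.epiDesc p g hg', Abelian.comp_epiDesc p g hg'⟩
    exact ⟨(cokernelIsCokernel w).coconePointUniqueUpToIso hc⟩
  obtain ⟨e₃⟩ := hw
  obtain ⟨e₄⟩ := nonempty_tw_tw n k m (-m) F
  obtain ⟨e₅⟩ := nonempty_tw_zero n k F
  rw [add_neg_cancel] at e₄
  refine ⟨(tw n k (-m)).map w, ⟨?_⟩⟩
  have hpc : PreservesFiniteLimits (tw n k (-m)) ∧ PreservesFiniteColimits (tw n k (-m)) :=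
    ((Functor.exact_tfae (tw n k (-m))).out 0 3).1 fun S hS =>
      CohqB.SerTw.shortExact_tw (isInvertible_twist n k (-m)) hS
  have hpc' := hpc.2
  exact (PreservesCokernel.iso (tw n k (-m)) w).symm ≪≫ (tw n k (-m)).mapIso e₃ ≪≫ e₄ ≪≫ e₅

end Proj

end Groth.Agent.Pic13.H951.Present
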