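import Groth.Prelude.Def_Pic13
import Groth.Agent.Pic13.H951.Present
import Groth.Agent.CurvesC.CurveNum
import Groth.Agent.VarietyB.ProjForm
import Groth.Agent.VarietyB.ExactLoc
import Groth.Agent.CohqA.ClosedPush
import Groth.Agent.FormalA.PullbackQC
import Groth.Agent.Fga.PicMon
import Groth.Agent.CohqA.AffPush
import Groth.Agent.Ega3B.ProjProper

/-!
# Presentations of `m`-regular sheaves with fixed Hilbert polynomial on closed subschemes of `P^n_k`

For `i : X ⟶ P^n_k` a closed immersion over `k`: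
* `isCoh_push`, `pushTwist : i_*(F(d)) ≅ (i_*F)(d)`, `isMRegular_push`, `euler_push`;
* `exists_presentation`: there are coherent `E`, `E'` on `X` such that every coherent `m`-regular `F` on `X` with
  Hilbert polynomial `φ` is the cokernel of a morphism `E ⟶ E'`.
-/

set_option autoImplicit false
universe u
open CategoryTheory CategoryTheory.Limits AlgebraicGeometry Opposite TopologicalSpace

namespace Groth.Agent.Pic13.H951.PresentX

section Closed

variable (k : Type u) [Field k] {n : ℕ} {X : Scheme.{u}} (i : X ⟶ CohB1.ProjSpace n k)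

theorem hasBases {X : Scheme.{u}} {L : X.Modules} (hL : PicF.IsInvertible L) : VarietyB.TensCoh.HasBases L :=
  VarietyB.ExactLoc.hasBasis_of_isFinLocFreeOfRank
    (Ega2.QCohLocal.isFinLocFreeOfRank_one_iff.mpr hL)

/-- `i_*(F(d)) ≅ (i_*F)(d)`. -/
noncomputable def pushTwist (F : X.Modules) (d : ℤ) :
    (Scheme.Modules.pushforward i).obj (_root_.Pic13.twistOn k i F d) ≅
      CohB1.tensorMod ((Scheme.Modules.pushforward i).obj F) (Twist.twistProjSpace n k d) :=
  (Scheme.Modules.pushforward i).mapIso (Ega2.Tens.swap F _) ≪≫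
    (VarietyB.ProjForm.projIso i (hasBases (Sga67.SerreVB.isInvertible_twist n k d)) F).symm ≪≫
      Ega2.Tens.swap _ _

variable [IsClosedImmersion i]

theorem isCoh_push {F : X.Modules} (hF : Coh.IsCoh F) : Coh.IsCoh ((Scheme.Modules.pushforward i).obj F) :=
  ⟨CohqA.AffPush.isQCoh_push i F hF.1, CohqA.AffPush.isFT_push i F hF.1 hF.2⟩

theorem isMRegular_push {F : X.Modules} {m : ℤ} (h : _root_.Pic13.IsMRegular k i F m) :
    Curv2.IsMRegular k n ((Scheme.Modules.pushforward i).obj F) m := by
  intro q hq _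
  have h1 := h q hq
  have e1 := CurvesC.CurveNum.hhPush i (_root_.Pic13.twistOn k i F (m - q)) q
  have e2 := Fga.PicMon.hmapEquiv k (CohB1.ProjSpace n k) (pushTwist k i F (m - q)) q
  exact (e1.trans e2.toAddEquiv).symm.subsingleton

theorem euler_push [X.Over (Spec (CommRingCat.of k))]
    (hi : i ≫ CohB1.ProjSpace.toSpec n k = X ↘ Spec (CommRingCat.of k)) (F : X.Modules) (d : ℤ) (e : ℕ) :
    FGA.eulerCharLE k (CohB1.ProjSpace n k)
      (CohB1.tensorMod ((Scheme.Modules.pushforward i).obj F) (Twist.twistProjSpace n k d)) e =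
      FGA.eulerCharLE k X (_root_.Pic13.twistOn k i F d) e := by
  unfold FGA.eulerCharLE
  refine Finset.sum_congr rfl fun q _ => ?_
  congr 2
  exact ((CurvesC.CurveNum.hhPushₗ k i hi (_root_.Pic13.twistOn k i F d) q).trans
    (Fga.PicMon.hmapEquiv k (CohB1.ProjSpace n k) (pushTwist k i F d) q)).finrank_eq.symm

open Groth.Agent.CohqA.ClosedPush in
/-- `i^* i_* M ≅ M` for a closed immersion `i`. -/
noncomputable def counitIso (M : X.Modules) :
    (Scheme.Modules.pullback i).obj ((Scheme.Modules.pushforward i).obj M) ≅ M :=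
  asIso ((Scheme.Modules.pullbackPushforwardAdjunction i).counit.app M)

/-- **Presentations of regular sheaves on closed subschemes of `P^n_k`.** -/
theorem exists_presentation [X.Over (Spec (CommRingCat.of k))]
    (hi : i ≫ CohB1.ProjSpace.toSpec n k = X ↘ Spec (CommRingCat.of k)) (m : ℤ) (φ : Polynomial ℚ) :
    ∃ E E' : X.Modules, Coh.IsCoh E ∧ Coh.IsCoh E' ∧
      ∀ F : X.Modules, (Coh.IsCoh F ∧ _root_.Pic13.IsMRegular k i F m ∧
        ∀ d : ℤ, (FGA.eulerCharLE k X (_root_.Pic13.twistOn k i F d) n : ℚ) = φ.eval (d : ℚ)) →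
        ∃ u : E ⟶ E', Nonempty (cokernel u ≅ F) := by
  obtain ⟨E, E', hE, hE', h⟩ := Present.exists_presentation k n m φ
  refine ⟨(Scheme.Modules.pullback i).obj E, (Scheme.Modules.pullback i).obj E',
    FormalA.PullbackQC.isCoh_pullback i _ hE, FormalA.PullbackQC.isCoh_pullback i _ hE', ?_⟩
  rintro F ⟨hF, hreg, hφ⟩
  obtain ⟨u, ⟨e⟩⟩ := h ((Scheme.Modules.pushforward i).obj F) (isCoh_push k i hF)
    (isMRegular_push k i hreg) (fun d => by rw [euler_push k i hi F d n]; exact hφ d)
  have : PreservesColimitsOfSize.{0, 0} (Scheme.Modules.pullback i) :=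
    (Scheme.Modules.pullbackPushforwardAdjunction i).leftAdjoint_preservesColimits
  exact ⟨(Scheme.Modules.pullback i).map u, ⟨(PreservesCokernel.iso (Scheme.Modules.pullback i) u).symm ≪≫
    (Scheme.Modules.pullback i).mapIso e ≪≫ counitIso k i F⟩⟩

end Closed

end Groth.Agent.Pic13.H951.PresentX
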